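import Groth.Agent.Sga84.DescEtale
import Groth.Agent.EtCore45.EtaleField
import Mathlib.Topology.Connected.Clopen

/-!
# Universally submersive morphisms with geometrically connected fibres
-/

set_option autoImplicit false
set_option backward.isDefEq.respectTransparency.types false
universe u

open CategoryTheory CategoryTheory.Limits AlgebraicGeometry TopologicalSpace

namespace Groth.Agent.GeomConn84

/-- A map from a connected scheme over an algebraically closed field to an étale scheme is constant. -/
theorem exists_const {Ω : Type u} [Field Ω] [IsAlgClosed Ω] {T U : Scheme.{u}} [ConnectedSpace T]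
    (t : T ⟶ Spec (CommRingCat.of Ω)) (v : U ⟶ Spec (CommRingCat.of Ω)) [Etale v] (β : T ⟶ U)
    (hβ : β ≫ v = t) : ∃ y : Spec (CommRingCat.of Ω) ⟶ U, β = t ≫ y := by
  obtain ⟨ι, M, _, _, _, _, e, he⟩ := (EtCore45.etale_field_iff v).1 ‹_›
  have := EtCore45.discrete_of_etale v
  obtain ⟨x₀⟩ : Nonempty T := inferInstance
  obtain ⟨i, z, hz⟩ := (sigmaOpenCover fun i => Spec (CommRingCat.of (M i))).exists_eq (e.inv (β x₀))
  have hz' : (Sigma.ι (fun i => Spec (CommRingCat.of (M i))) i) z = e.inv (β x₀) := hz
  let j := Sigma.ι (fun i => Spec (CommRingCat.of (M i))) i ≫ e.hom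
  have hr : Set.range β ⊆ Set.range j := by
    rintro _ ⟨x, rfl⟩
    refine ⟨z, ?_⟩
    rw [Scheme.Hom.comp_apply, hz', ← Scheme.Hom.comp_apply, Iso.inv_hom_id]
    exact PreconnectedSpace.constant (inferInstance : PreconnectedSpace T) β.continuous
  let β' := IsOpenImmersion.lift j β hr
  have hβ' : β' ≫ j = β := IsOpenImmersion.lift_fac _ _ _
  have hbij : Function.Bijective (algebraMap Ω (M i)) := IsAlgClosed.algebraMap_bijective_of_isIntegral
  have : IsIso (j ≫ v) := by
    rw [show j ≫ v = Spec.map (CommRingCat.ofHom (algebraMap Ω (M i))) from (Category.assoc _ _ _).trans (he i)]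
    have : IsIso (CommRingCat.ofHom (algebraMap Ω (M i))) := (RingEquiv.ofBijective _ hbij).toCommRingCatIso.isIso_hom
    infer_instance
  refine ⟨inv (j ≫ v) ≫ j, ?_⟩
  rw [← hβ, ← hβ', Category.assoc, Category.assoc, ← Category.assoc j v, IsIso.hom_inv_id_assoc]

/-- A geometric point over a point of a scheme. -/
theorem exists_geomPt (X : Scheme.{u}) (x : X) :
    ∃ (Ω : Type u) (_ : Field Ω) (_ : IsAlgClosed Ω) (ξ : Spec (CommRingCat.of Ω) ⟶ X), Set.range ξ = {x} := by
  let Ω := AlgebraicClosure (X.residueField x)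
  refine ⟨Ω, inferInstance, inferInstance,
    Spec.map (CommRingCat.ofHom (algebraMap (X.residueField x) Ω)) ≫ X.fromSpecResidueField x, ?_⟩
  ext y
  constructor
  · rintro ⟨z, rfl⟩
    rw [Scheme.Hom.comp_apply, Scheme.fromSpecResidueField_apply]; rfl
  · rintro rfl
    exact ⟨(⊥ : PrimeSpectrum Ω), by rw [Scheme.Hom.comp_apply, Scheme.fromSpecResidueField_apply]⟩

variable {S' S : Scheme.{u}} (g : S' ⟶ S)
  (hconn : ∀ (K : Type u) [Field K] [IsAlgClosed K] (ξ : Spec (CommRingCat.of K) ⟶ S), ConnectedSpace ↑(pullback g ξ))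

include hconn

theorem isConnected_fibre (s : S) : _root_.IsConnected (g ⁻¹' {s}) := by
  obtain ⟨Ω, _, _, ξ, hξ⟩ := exists_geomPt S s
  have := hconn Ω ξ
  rw [← hξ, ← Scheme.Pullback.range_fst]
  exact isConnected_range (pullback.fst g ξ).continuous

theorem connectedSpace (hg : SGA1.UnivSubmersive g) [ConnectedSpace S] : ConnectedSpace S' := by
  have h : Topology.IsQuotientMap g := hg _ _ _ IsPullback.of_id_snd
  have := h.isCoinducing.isConnected_preimage_of_isClosed (isConnected_fibre g hconn) isClosed_univ isConnected_univ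
  rw [Set.preimage_univ] at this
  exact connectedSpace_iff_univ.2 this

/-- Morphisms from a base change to an étale scheme are constant on the fibres. -/
theorem comp_eq {X Y : Scheme.{u}} (p : X ⟶ S) (q : Y ⟶ S) [Etale q] (b : pullback p g ⟶ Y)
    (hb : b ≫ q = pullback.fst p g ≫ p) {T : Scheme.{u}} (a w : T ⟶ pullback p g)
    (haw : a ≫ pullback.fst p g = w ≫ pullback.fst p g) : a ≫ b = w ≫ b := by
  have hq : a ≫ b ≫ q = w ≫ b ≫ q := by rw [hb, reassoc_of% haw]
  let β : T ⟶ pullback q q := pullback.lift (a ≫ b) (w ≫ b) (by rw [Category.assoc, Category.assoc, hq])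
  have hr : Set.range β ⊆ Set.range (pullback.diagonal q) := by
    rintro _ ⟨δ, rfl⟩
    obtain ⟨Ω, _, _, m, hm⟩ := exists_geomPt T δ
    let xb : Spec (CommRingCat.of Ω) ⟶ X := m ≫ a ≫ pullback.fst p g
    let ξ := xb ≫ p
    have := hconn Ω ξ
    let l : pullback g ξ ⟶ pullback p g := pullback.lift (pullback.snd g ξ ≫ xb) (pullback.fst g ξ) (by
      rw [Category.assoc]; exact pullback.condition.symm)
    let b' : pullback g ξ ⟶ pullback q ξ := pullback.lift (l ≫ b) (pullback.snd g ξ) (by
      rw [Category.assoc, hb]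
      simp only [l, pullback.lift_fst_assoc, Category.assoc, ξ])
    obtain ⟨y, hy⟩ := exists_const (pullback.snd g ξ) (pullback.snd q ξ) b' (pullback.lift_snd _ _ _)
    have key : ∀ c : T ⟶ pullback p g, c ≫ pullback.fst p g = a ≫ pullback.fst p g →
        m ≫ c ≫ b = y ≫ pullback.fst q ξ := by
      intro c hc
      let s : Spec (CommRingCat.of Ω) ⟶ pullback g ξ := pullback.lift (m ≫ c ≫ pullback.snd p g) (𝟙 _) (by
        simp only [Category.id_comp, Category.assoc, ← pullback.condition, ξ, xb]
        rw [reassoc_of% hc])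
      have hs : m ≫ c = s ≫ l := by
        apply pullback.hom_ext
        · simp only [s, l, Category.assoc, pullback.lift_fst, pullback.lift_snd_assoc, Category.id_comp, xb, hc]
        · simp only [s, l, Category.assoc, pullback.lift_fst, pullback.lift_snd]
      rw [← Category.assoc, hs, Category.assoc, ← pullback.lift_fst (f := q) (g := ξ) (l ≫ b) (pullback.snd g ξ)]
      show s ≫ b' ≫ _ = _
      rw [hy, Category.assoc, pullback.lift_snd_assoc, Category.id_comp]
    have e : m ≫ β = (y ≫ pullback.fst q ξ) ≫ pullback.diagonal q := by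
      apply pullback.hom_ext
      · simp only [β, Category.assoc, pullback.lift_fst, pullback.diagonal_fst, Category.comp_id]
        exact key a rfl
      · simp only [β, Category.assoc, pullback.lift_snd, pullback.diagonal_snd, Category.comp_id]
        exact key w haw.symm
    obtain ⟨z, hz⟩ : δ ∈ Set.range m := hm.ge rfl
    refine ⟨(y ≫ pullback.fst q ξ) z, ?_⟩
    rw [← Scheme.Hom.comp_apply, ← e, Scheme.Hom.comp_apply, hz]
  let E := IsOpenImmersion.lift (pullback.diagonal q) β hr
  have hE : E ≫ pullback.diagonal q = β := IsOpenImmersion.lift_fac _ _ _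
  have h1 := congrArg (· ≫ pullback.fst q q) hE
  have h2 := congrArg (· ≫ pullback.snd q q) hE
  simp only [β, Category.assoc, pullback.diagonal_fst, pullback.diagonal_snd, Category.comp_id,
    pullback.lift_fst, pullback.lift_snd] at h1 h2
  exact h1.symm.trans h2

theorem bijective_pullback_map (hg : SGA1.UnivSubmersive g) (X Y : Over S) [Etale Y.hom] :
    Function.Bijective ((Over.pullback g).map : (X ⟶ Y) → _) := by
  have hEx : ∀ (φ : (Over.pullback g).obj X ⟶ (Over.pullback g).obj Y),
      (φ.left ≫ pullback.fst Y.hom g) ≫ Y.hom = pullback.fst X.hom g ≫ X.hom := fun φ => by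
    rw [Category.assoc, pullback.condition, pullback.condition, ← Category.assoc]
    exact congrArg (· ≫ g) (Over.w φ)
  constructor
  · intro f₁ f₂ h
    apply Over.OverMorphism.ext
    have hb := hEx ((Over.pullback g).map f₁)
    obtain ⟨u, -, hu⟩ := Sga84.existsUnique_desc_etale g hg X.hom Y.hom _ hb
      (fun a w haw => comp_eq g hconn X.hom Y.hom _ hb a w haw)
    have e : ∀ f : X ⟶ Y, ((Over.pullback g).map f).left ≫ pullback.fst Y.hom g = pullback.fst X.hom g ≫ f.left :=
      fun f => pullback.lift_fst _ _ _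
    exact (hu f₁.left ⟨Over.w f₁, e f₁⟩).trans (hu f₂.left ⟨Over.w f₂, by rw [h]; exact e f₂⟩).symm
  · intro φ
    obtain ⟨u, ⟨hu, hu'⟩, -⟩ := Sga84.existsUnique_desc_etale g hg X.hom Y.hom _ (hEx φ)
      (fun a w haw => comp_eq g hconn X.hom Y.hom _ (hEx φ) a w haw)
    refine ⟨Over.homMk u hu, Over.OverMorphism.ext (pullback.hom_ext ?_ ?_)⟩
    · exact (pullback.lift_fst _ _ _).trans hu'.symm
    · exact (pullback.lift_snd _ _ _).trans (Over.w φ).symm

end Groth.Agent.GeomConn84
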